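import Groth.Agent.DEquiv.K235.PtHom
import Groth.Agent.PerfA.PointVan
import Groth.Agent.S14424
import Groth.Agent.S0319
import Groth.Agent.Variety.K424.NormDimOne
import Groth.Agent.Variety.K434.DimQF
import Groth.Agent.CurvesA.GenSpread
import Groth.Agent.CycA.IntCore2
import Groth.Prelude.Def_Models

/-!
# A nonzero class in `Ext^d(O_x, O_X)` for `x` a closed point of a regular scheme, `d = dim O_{X,x}`
-/

set_option autoImplicit false
universe u
open CategoryTheory CategoryTheory.Limits AlgebraicGeometry TopologicalSpace Opposite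

namespace K235.PtExt

open Groth.Agent.PerfA.PointMod Groth.Agent.PerfA.PointHom DerivedCategory Groth.Agent.PerfA.FieldSch

attribute [local instance] HasDerivedCategory.standard

section Ring

variable (A : Type u) [CommRing A] [IsNoetherianRing A]
  (hreg : ∀ (p : Ideal A) [p.IsPrime], IsRegularLocalRing (Localization.AtPrime p))

include hreg in
theorem nontrivial_ext (m : Ideal A) (hm : m ≠ ⊤) (d : ℕ) (hd : m.height = d) :
    Nontrivial (Abelian.Ext (ModuleCat.of A (A ⧸ m)) (ModuleCat.of A A) d) := by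
  have hCM : LocCoh.IsCohenMacaulayRing A :=
    { isCohenMacaulayLocalRing_localization := fun p _ => by
        have := hreg p
        exact Groth.Agent.CycA.IntCore2.isCohenMacaulayLocalRing_of_regular (Localization.AtPrime p) }
  have h1 := (Groth.Agent.S14424.result A).1 hCM m hm
  rw [hd] at h1
  refine ((Groth.Agent.S0319.result A m A ?_ d).1 h1).2
  rw [smul_eq_mul, Ideal.mul_top]
  exact hm

include hreg in
/-- A nonzero morphism `κ[-d] ⟶ A` in `D(A)`. -/
theorem exists_ne_zero {κ : Type u} [Field κ] (φ : CommRingCat.of A ⟶ CommRingCat.of κ)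
    (hφ : Function.Surjective φ.hom) (d : ℕ) (hd : (RingHom.ker φ.hom).height = d) :
    ∃ ψ : (resSingle φ (d : ℤ)).obj (ModuleCat.of κ κ) ⟶ Dual.inD A A, ψ ≠ 0 := by
  have hm : RingHom.ker φ.hom ≠ ⊤ := RingHom.ker_ne_top _
  have h1 := nontrivial_ext A hreg _ hm d hd
  let el : (A ⧸ RingHom.ker φ.hom) ≃ₗ[A]
      (ModuleCat.restrictScalars.{u} φ.hom).obj (ModuleCat.of κ κ) :=
    { (RingHom.quotientKerEquivOfSurjective hφ) with
      map_smul' := fun r x => by
        obtain ⟨x, rfl⟩ := Ideal.Quotient.mk_surjective x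
        exact map_mul φ.hom r x }
  let ei : ModuleCat.of A (A ⧸ RingHom.ker φ.hom) ≅
      (ModuleCat.restrictScalars.{u} φ.hom).obj (ModuleCat.of κ κ) := el.toModuleIso
  have h2 : Nontrivial (Dual.inD A (A ⧸ RingHom.ker φ.hom) ⟶ (Dual.inD A A)⟦(d : ℤ)⟧) :=
    (Groth.Agent.Localalg.DGor.extEquiv A _ A d).toEquiv.nontrivial_congr.1 h1
  have h3 : Nontrivial ((singleFunctor (ModuleCat.{u} A) d).obj
      (ModuleCat.of A (A ⧸ RingHom.ker φ.hom)) ⟶ Dual.inD A A) :=
    (Groth.Agent.LoccohB.HomBC.sgEquiv (d : ℤ) _ (Dual.inD A A)).toEquiv.nontrivial_congr.2 h2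
  have h4 : Nontrivial ((resSingle φ (d : ℤ)).obj (ModuleCat.of κ κ) ⟶ Dual.inD A A) :=
    (((singleFunctor (ModuleCat.{u} A) (d : ℤ)).mapIso ei).homCongr
      (Iso.refl (Dual.inD A A))).nontrivial_congr.1 h3
  exact exists_ne 0

end Ring

section Scheme

variable (X : Scheme.{u}) [IsLocallyNoetherian X] (hreg : Models.IsRegularScheme X) (x : X)
  (hx : IsClosed ({x} : Set X)) (d : ℕ) (hd : ringKrullDim (X.presheaf.stalk x) = d)

include hreg hx hd in
/-- There is a nonzero morphism `O_x[-d] ⟶ O_X`, for `x` a closed point of a regular scheme with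
`dim O_{X,x} = d`. -/
theorem exists_sky : ∃ ψ : (singleFunctor X.Modules (d : ℤ)).obj (K235.PtHom.sky x) ⟶
    DCoh.inD X (Coh.structureModule X), ψ ≠ 0 := by
  obtain ⟨_, ⟨U, hU, rfl⟩, hxU, -⟩ :=
    X.isBasis_affineOpens.exists_subset_of_mem_open (Set.mem_univ x) isOpen_univ
  change IsAffineOpen U at hU
  change x ∈ U at hxU
  have hN : IsNoetherianRing Γ(X, U) := IsLocallyNoetherian.component_noetherian ⟨U, hU⟩
  let y := hU.primeIdealOf ⟨x, hxU⟩
  have hy : hU.fromSpec y = x := hU.fromSpec_primeIdealOf ⟨x, hxU⟩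
  -- the prime ideal is maximal
  have hcl : IsClosed ({y} : Set (Spec Γ(X, U))) := by
    have h1 : ({y} : Set (Spec Γ(X, U))) = hU.fromSpec ⁻¹' {x} := by
      ext z
      constructor
      · rintro rfl
        exact hy
      · intro hz
        exact hU.fromSpec.isOpenEmbedding.injective (hz.trans hy.symm)
    rw [h1]
    exact hx.preimage hU.fromSpec.continuous
  have hmax : y.asIdeal.IsMaximal := (PrimeSpectrum.isClosed_singleton_iff_isMaximal y).1 hcl
  have hsurj := K424.NormDimOne.evaluation_surjective hU x hxU hmax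
  have hcomp : Spec.map (X.evaluation U x hxU) ≫ hU.fromSpec = X.fromSpecResidueField x :=
    Groth.Agent.CurvesA.GenSpread.SpecMap_evaluation x U hU hxU
  -- the kernel of the evaluation
  have hker : RingHom.ker (X.evaluation U x hxU).hom = y.asIdeal := by
    obtain ⟨z⟩ : Nonempty (Spec (X.residueField x)) :=
      inferInstanceAs (Nonempty (PrimeSpectrum (X.residueField x)))
    have h1 : Spec.map (X.evaluation U x hxU) z = y := by
      apply hU.fromSpec.isOpenEmbedding.injective
      rw [hy, ← Scheme.Hom.comp_apply, hcomp, X.fromSpecResidueField_apply]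
    have h2 : z.asIdeal = ⊥ := by
      rcases Ideal.eq_bot_or_top z.asIdeal with h | h
      · exact h
      · exact absurd h z.isPrime.ne_top
    rw [← h1]
    change _ = Ideal.comap (X.evaluation U x hxU).hom z.asIdeal
    rw [h2, RingHom.ker_eq_comap_bot]
  have hregA : ∀ (p : Ideal Γ(X, U)) [p.IsPrime], IsRegularLocalRing (Localization.AtPrime p) := by
    intro p hp
    let q : PrimeSpectrum Γ(X, U) := ⟨p, hp⟩
    have hq : hU.fromSpec q ∈ U := by
      have : hU.fromSpec q ∈ Set.range hU.fromSpec := ⟨q, rfl⟩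
      rw [hU.range_fromSpec] at this
      exact this
    let := TopCat.Presheaf.algebra_section_stalk X.presheaf ⟨hU.fromSpec q, hq⟩
    have hl : IsLocalization.AtPrime (X.presheaf.stalk (hU.fromSpec q)) p :=
      hU.isLocalization_stalk' q hq
    have := hreg (hU.fromSpec q)
    exact IsRegularLocalRing.of_ringEquiv
      (IsLocalization.algEquiv p.primeCompl (X.presheaf.stalk (hU.fromSpec q))
        (Localization.AtPrime p)).toRingEquiv
  have hheight : (RingHom.ker (X.evaluation U x hxU).hom).height = d := by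
    rw [hker]
    have := K434.DimQF.stalk_ringKrullDim hU x hxU
    rw [hd] at this
    exact_mod_cast this.symm
  obtain ⟨ψ, hψ⟩ := exists_ne_zero Γ(X, U) hregA (κ := X.residueField x) (X.evaluation U x hxU) hsurj d
    hheight
  have hc : IsClosed (Set.range (Spec.map (X.evaluation U x hxU) ≫ hU.fromSpec)) := by
    rw [hcomp, X.range_fromSpecResidueField]
    exact hx
  let N := natHomLocal (A := Γ(X, U)) (κ := X.residueField x) (X.evaluation U x hxU) hU.fromSpec hc
    (DCoh.inD X (Coh.structureModule X)) (Dual.inD Γ(X, U) Γ(X, U))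
    (restrictStructureIso Γ(X, U) hU.fromSpec) (d : ℤ)
  have key : ∀ e' : Spec (X.residueField x) ⟶ X, e' = X.fromSpecResidueField x →
      (∃ χ : (skySingle (κ := X.residueField x) e' (d : ℤ)).obj
        (ModuleCat.of (X.residueField x) (X.residueField x)) ⟶
        DCoh.inD X (Coh.structureModule X), χ ≠ 0) →
      ∃ ψ : (singleFunctor X.Modules (d : ℤ)).obj (K235.PtHom.sky x) ⟶
        DCoh.inD X (Coh.structureModule X), ψ ≠ 0 := by
    rintro _ rfl ⟨χ, hχ⟩
    let u : (skySingle (κ := X.residueField x) (X.fromSpecResidueField x) (d : ℤ)).obj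
        (ModuleCat.of (X.residueField x) (X.residueField x)) ≅
        (singleFunctor X.Modules (d : ℤ)).obj (K235.PtHom.sky x) :=
      (singleFunctor X.Modules (d : ℤ)).mapIso
        ((Scheme.Modules.pushforward (X.fromSpecResidueField x)).mapIso
          (tildeSelf (R := CommRingCat.of (X.residueField x))))
    refine ⟨u.inv ≫ χ, fun h => hχ ?_⟩
    rw [← cancel_epi u.inv, h, comp_zero]
  refine key _ hcomp ⟨(N.equiv _).symm ψ, fun h => hψ ?_⟩
  exact (N.equiv _).symm.injective (h.trans (map_zero (N.equiv _).symm).symm)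

end Scheme

end K235.PtExt
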