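import Mathlib.Algebra.Homology.DerivedCategory.Basic
import Mathlib.Algebra.Homology.DerivedCategory.FullyFaithful
import Mathlib.Algebra.Homology.Single
import Groth.Agent.CohDer.K235.KProjLift
import Mathlib.CategoryTheory.Preadditive.Injective.Basic

/-!
# Derived categories of abelian categories all of whose objects are injective

`exists_retract`: the `m`-th cohomology object of a complex `L`, placed in degree `m`, is a retract
of `L` in the derived category.
-/

set_option autoImplicit false
universe w v u
open CategoryTheory CategoryTheory.Limits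

namespace K235.SemiSimple

variable {A : Type u} [Category.{v} A] [Abelian A]

/-- If all objects are injective, every epimorphism splits. -/
theorem exists_section_of_epi (hinj : ∀ X : A, Injective X) {X Y : A} (p : X ⟶ Y) [Epi p] :
    ∃ s : Y ⟶ X, s ≫ p = 𝟙 Y := by
  have := hinj (kernel p)
  let S : ShortComplex A := ShortComplex.mk (kernel.ι p) p (kernel.condition p)
  have hS : S.Exact := ShortComplex.exact_kernel p
  have hg : Epi S.g := inferInstanceAs (Epi p)
  let sp : S.Splitting := ShortComplex.Splitting.ofExactOfRetraction S hS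
    (Injective.factorThru (𝟙 _) (kernel.ι p)) (Injective.comp_factorThru _ _) hg
  exact ⟨sp.s, sp.s_g⟩

/-- The cohomology of a complex is a retract of the complex, if all objects are injective. -/
theorem exists_retract_complex (hinj : ∀ X : A, Injective X) (K : CochainComplex A ℤ) (m : ℤ) :
    ∃ (s : (HomologicalComplex.single A (ComplexShape.up ℤ) m).obj (K.homology m) ⟶ K)
      (r : K ⟶ (HomologicalComplex.single A (ComplexShape.up ℤ) m).obj (K.homology m)),
        s ≫ r = 𝟙 _ := by
  obtain ⟨σ, hσ⟩ := exists_section_of_epi hinj (K.homologyπ m)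
  have := hinj (K.homology m)
  let ρ : K.opcycles m ⟶ K.homology m := Injective.factorThru (𝟙 _) (K.homologyι m)
  have hρ : K.homologyι m ≫ ρ = 𝟙 _ := Injective.comp_factorThru _ _
  refine ⟨HomologicalComplex.mkHomFromSingle (σ ≫ K.iCycles m) (fun k hk => by
      rw [Category.assoc, HomologicalComplex.iCycles_d, comp_zero]),
    HomologicalComplex.mkHomToSingle (K.pOpcycles m ≫ ρ) (fun i hi => by
      rw [← Category.assoc, HomologicalComplex.d_pOpcycles, zero_comp]), ?_⟩
  apply HomologicalComplex.from_single_hom_ext
  rw [HomologicalComplex.comp_f, HomologicalComplex.mkHomFromSingle_f,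
    HomologicalComplex.mkHomToSingle_f, HomologicalComplex.id_f]
  simp only [Category.assoc]
  have h1 : σ ≫ K.iCycles m ≫ K.pOpcycles m ≫ ρ = 𝟙 _ := by
    rw [← HomologicalComplex.homology_π_ι_assoc, hρ, Category.comp_id, hσ]
  rw [reassoc_of% h1]
  exact Iso.hom_inv_id _

/-- If all objects are injective, all objects are projective. -/
theorem projective_of_injective (hinj : ∀ X : A, Injective X) (Y : A) : Projective Y := by
  refine ⟨fun {E X} f e he => ?_⟩
  obtain ⟨s, hs⟩ := exists_section_of_epi hinj e
  exact ⟨f ≫ s, by rw [Category.assoc, hs, Category.comp_id]⟩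

/-- Morphisms from a projective object in degree `m` to a complex with `H^m = 0` are homotopic to
zero. -/
theorem homotopy_single_zero (K : CochainComplex A ℤ) (m : ℤ) (h : IsZero (K.homology m)) (Y : A)
    [Projective Y] (f : (HomologicalComplex.single A (ComplexShape.up ℤ) m).obj Y ⟶ K) :
    Nonempty (Homotopy f 0) := by
  let S : CochainComplex A ℤ := (HomologicalComplex.single A (ComplexShape.up ℤ) m).obj Y
  have hSX : ∀ i, i ≠ m → IsZero (S.X i) := fun i hi =>
    HomologicalComplex.isZero_single_obj_X (ComplexShape.up ℤ) m Y i hi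
  have hLE : S.IsStrictlyLE m := by
    rw [CochainComplex.isStrictlyLE_iff]
    exact fun i hi => hSX i (by omega)
  have hGE : S.IsStrictlyGE m := by
    rw [CochainComplex.isStrictlyGE_iff]
    exact fun i hi => hSX i (by omega)
  have hproj : ∀ i, Projective (S.X i) := by
    intro i
    by_cases hi : i = m
    · subst hi
      exact Projective.of_iso (HomologicalComplex.singleObjXSelf (ComplexShape.up ℤ) i Y).symm
        inferInstance
    · exact (hSX i hi).projective
  have hS : S.IsKProjective := CochainComplex.isKProjective_of_projective S m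
  have hK : (K.truncLE m).IsLE (m - 1) := by
    rw [CochainComplex.isLE_iff]
    intro i hi
    rw [HomologicalComplex.exactAt_iff_isZero_homology]
    by_cases him : i = m
    · subst him
      have : QuasiIsoAt (K.ιTruncLE i) i := inferInstance
      exact h.of_iso (asIso (HomologicalComplex.homologyMap (K.ιTruncLE i) i))
    · exact (K.truncLE m).isZero_of_isLE m i (by omega)
  have hf : f = (inv (S.ιTruncLE m) ≫ CochainComplex.truncLEMap f m) ≫ K.ιTruncLE m := by
    rw [Category.assoc, CochainComplex.ιTruncLE_naturality, IsIso.inv_hom_id_assoc]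
  obtain ⟨H⟩ := K235.KProjLift.homotopy_zero (P := S) (K := K.truncLE m) m
    (inv (S.ιTruncLE m) ≫ CochainComplex.truncLEMap f m)
  rw [hf]
  exact ⟨(H.compRight (K.ιTruncLE m)).trans (Homotopy.ofEq zero_comp)⟩

variable [HasDerivedCategory.{w} A]

open DerivedCategory in
/-- The cohomology of an object of the derived category is a retract of it, if all objects are
injective. -/
theorem exists_retract (hinj : ∀ X : A, Injective X) (L : DerivedCategory A) (m : ℤ) :
    ∃ (s : (singleFunctor A m).obj ((homologyFunctor A m).obj L) ⟶ L)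
      (r : L ⟶ (singleFunctor A m).obj ((homologyFunctor A m).obj L)), s ≫ r = 𝟙 _ := by
  let K := Q.objPreimage L
  let e : Q.obj K ≅ L := Q.objObjPreimageIso L
  let eH : (homologyFunctor A m).obj L ≅ K.homology m :=
    (homologyFunctor A m).mapIso e.symm ≪≫ (homologyFunctorFactors A m).app K
  obtain ⟨s, r, hsr⟩ := exists_retract_complex hinj K m
  let s' : (singleFunctor A m).obj (K.homology m) ⟶ Q.obj K := Q.map s
  let r' : Q.obj K ⟶ (singleFunctor A m).obj (K.homology m) := Q.map r
  have h1 : s' ≫ r' = 𝟙 ((singleFunctor A m).obj (K.homology m)) :=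
    (Q.map_comp s r).symm.trans ((congrArg Q.map hsr).trans (Q.map_id _))
  refine ⟨(singleFunctor A m).map eH.hom ≫ s' ≫ e.hom,
    e.inv ≫ r' ≫ (singleFunctor A m).map eH.inv, ?_⟩
  generalize (s' : (singleFunctor A m).obj (K.homology m) ⟶ Q.obj K) = s'' at h1
  generalize (r' : Q.obj K ⟶ (singleFunctor A m).obj (K.homology m)) = r'' at h1
  simp only [Category.assoc, e.hom_inv_id_assoc]
  rw [reassoc_of% h1, ← Functor.map_comp, eH.hom_inv_id]
  exact (singleFunctor A m).map_id _

open DerivedCategory in
/-- If `H^m(L) = 0` there is no nonzero morphism from an object placed in degree `m` to `L`, if all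
objects are injective. -/
theorem subsingleton_single (hinj : ∀ X : A, Injective X) (L : DerivedCategory A) (m : ℤ)
    (h : IsZero ((homologyFunctor A m).obj L)) (Y : A) :
    Subsingleton ((singleFunctor A m).obj Y ⟶ L) := by
  suffices H : ∀ φ : (singleFunctor A m).obj Y ⟶ L, φ = 0 from
    ⟨fun a b => (H a).trans (H b).symm⟩
  intro φ
  have := projective_of_injective hinj Y
  let S : CochainComplex A ℤ := (HomologicalComplex.single A (ComplexShape.up ℤ) m).obj Y
  let K := Q.objPreimage L
  let e : Q.obj K ≅ L := Q.objObjPreimageIso L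
  have hK : IsZero (K.homology m) :=
    h.of_iso (((homologyFunctorFactors A m).app K).symm ≪≫ (homologyFunctor A m).mapIso e)
  have hSX : ∀ i, i ≠ m → IsZero (S.X i) := fun i hi =>
    HomologicalComplex.isZero_single_obj_X (ComplexShape.up ℤ) m Y i hi
  have hLE : S.IsStrictlyLE m := by
    rw [CochainComplex.isStrictlyLE_iff]
    exact fun i hi => hSX i (by omega)
  have hproj : ∀ i, Projective (S.X i) := fun i => projective_of_injective hinj _
  have hS : S.IsKProjective := CochainComplex.isKProjective_of_projective S m
  let φ' : Q.obj S ⟶ Q.obj K := φ ≫ e.inv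
  obtain ⟨f, hf⟩ : ∃ f : S ⟶ K, Q.map f = φ' := by
    obtain ⟨g, hg⟩ := (CochainComplex.IsKProjective.Qh_map_bijective S
      ((HomotopyCategory.quotient _ _).obj K)).surjective
      ((quotientCompQhIso A).hom.app S ≫ φ' ≫ (quotientCompQhIso A).inv.app K)
    obtain ⟨g, rfl⟩ := (HomotopyCategory.quotient _ _).map_surjective g
    refine ⟨g, ?_⟩
    have h1 := (quotientCompQhIso A).hom.naturality g
    dsimp at h1
    rw [hg] at h1
    simp only [Category.assoc, Iso.inv_hom_id_app, Category.comp_id] at h1
    rw [← cancel_epi ((quotientCompQhIso A).hom.app S)]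
    exact h1.symm.trans (by simp)
  obtain ⟨H⟩ := homotopy_single_zero K m hK Y f
  have h0 : Q.map f = 0 := by
    rw [DerivedCategory.Q_map_eq_of_homotopy A H, Functor.map_zero]
  have h1 : φ' = 0 := hf.symm.trans h0
  exact (cancel_mono e.inv).1 (h1.trans zero_comp.symm)

end K235.SemiSimple
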