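import Groth.Agent.PerfA.FieldSch
import Groth.Agent.DEquiv.K235.SemiSimple

/-!
# The derived category of the spectrum of a field

`exists_retract`: if `H^m(L) ≠ 0` then `O[-m]` is a retract of `L`, for `L ∈ D(O_{Spec κ})`.
-/

set_option autoImplicit false
universe u
open CategoryTheory CategoryTheory.Limits AlgebraicGeometry TopologicalSpace Opposite

namespace K235.PtField

open Groth.Agent.PerfA.PointMod DerivedCategory

attribute [local instance] HasDerivedCategory.standard

variable (κ : Type u) [Field κ]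

/-- A nonzero module over the spectrum of a field has the structure sheaf as a retract. -/
theorem exists_retract_structure (M : (Spec (CommRingCat.of κ)).Modules) (hM : ¬ IsZero M) :
    ∃ (s : Coh.structureModule (Spec (CommRingCat.of κ)) ⟶ M)
      (r : M ⟶ Coh.structureModule (Spec (CommRingCat.of κ))), s ≫ r = 𝟙 _ := by
  let F := tilde.functor (CommRingCat.of κ)
  let V : ModuleCat.{u} κ := F.objPreimage M
  let e : F.obj V ≅ M := F.objObjPreimageIso M
  have hV : ¬ IsZero V := fun h => hM ((F.map_isZero h).of_iso e.symm)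
  have hV' : ∃ v : V, v ≠ 0 := by
    by_contra h
    push Not at h
    refine hV ?_
    have : Subsingleton V := ⟨fun a b => (h a).trans (h b).symm⟩
    exact ModuleCat.isZero_of_subsingleton V
  obtain ⟨v, hv⟩ := hV'
  obtain ⟨g, hg⟩ : ∃ g : Module.Dual κ V, g v ≠ 0 := by
    by_contra h
    push Not at h
    exact hv ((Module.forall_dual_apply_eq_zero_iff κ v).1 h)
  let s₀ : ModuleCat.of κ κ ⟶ V := ModuleCat.ofHom (LinearMap.toSpanSingleton κ V v)
  let r₀ : V ⟶ ModuleCat.of κ κ := ModuleCat.ofHom ((g v)⁻¹ • g)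
  have h0 : s₀ ≫ r₀ = 𝟙 _ := by
    ext
    change (g v)⁻¹ * g ((1 : κ) • v) = 1
    rw [one_smul, inv_mul_cancel₀ hg]
  let u : F.obj (ModuleCat.of κ κ) ≅ Coh.structureModule (Spec (CommRingCat.of κ)) :=
    tildeSelf (R := CommRingCat.of κ)
  refine ⟨u.inv ≫ F.map s₀ ≫ e.hom, e.inv ≫ F.map r₀ ≫ u.hom, ?_⟩
  have h1 : F.map s₀ ≫ F.map r₀ = 𝟙 _ := by
    rw [← Functor.map_comp, h0, CategoryTheory.Functor.map_id]
  simp only [Category.assoc, e.hom_inv_id_assoc]
  rw [reassoc_of% h1, u.inv_hom_id]

/-- The structure sheaf of the spectrum of a field is not zero. -/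
theorem not_isZero_structure : ¬ IsZero (Coh.structureModule (Spec (CommRingCat.of κ))) := by
  intro h
  have h1 : IsZero ((tilde.functor (CommRingCat.of κ)).obj (ModuleCat.of κ κ)) :=
    h.of_iso (tildeSelf (R := CommRingCat.of κ))
  have h2 : (𝟙 (ModuleCat.of κ κ)) = 0 := by
    apply (tilde.functor (CommRingCat.of κ)).map_injective
    exact h1.eq_of_src _ _
  have h3 := congrArg (fun f : ModuleCat.of κ κ ⟶ ModuleCat.of κ κ => f.hom (1 : κ)) h2
  exact one_ne_zero h3

/-- If `H^m(L) ≠ 0` then `O[-m]` is a retract of `L`. -/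
theorem exists_retract (L : DCoh.D (Spec (CommRingCat.of κ))) (m : ℤ) (h : ¬ IsZero (DCoh.HD L m)) :
    ∃ (s : (singleFunctor (Spec (CommRingCat.of κ)).Modules m).obj (Coh.structureModule _) ⟶ L)
      (r : L ⟶ (singleFunctor (Spec (CommRingCat.of κ)).Modules m).obj (Coh.structureModule _)),
      s ≫ r = 𝟙 _ := by
  obtain ⟨s, r, h1⟩ := K235.SemiSimple.exists_retract (injective_of_field κ) L m
  obtain ⟨s', r', h2⟩ := exists_retract_structure κ _ h
  refine ⟨(singleFunctor _ m).map s' ≫ s, r ≫ (singleFunctor _ m).map r', ?_⟩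
  rw [Category.assoc, reassoc_of% h1, ← Functor.map_comp, h2, CategoryTheory.Functor.map_id]

theorem id_single_ne_zero (m : ℤ) :
    𝟙 ((singleFunctor (Spec (CommRingCat.of κ)).Modules m).obj (Coh.structureModule _)) ≠ 0 := by
  intro h
  refine not_isZero_structure κ ?_
  rw [IsZero.iff_id_eq_zero]
  apply (singleFunctor (Spec (CommRingCat.of κ)).Modules m).map_injective
  rw [CategoryTheory.Functor.map_id, h, Functor.map_zero]

/-- If there is no nonzero morphism `L ⟶ O[-m]` then `H^m(L) = 0`. -/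
theorem isZero_of_hom_to (L : DCoh.D (Spec (CommRingCat.of κ))) (m : ℤ)
    (h : ∀ φ : L ⟶ (singleFunctor (Spec (CommRingCat.of κ)).Modules m).obj
      (Coh.structureModule _), φ = 0) : IsZero (DCoh.HD L m) := by
  by_contra hL
  obtain ⟨s, r, hsr⟩ := exists_retract κ L m hL
  apply id_single_ne_zero κ m
  rw [← hsr, h r, comp_zero]

/-- If there is no nonzero morphism `O[-m] ⟶ L` then `H^m(L) = 0`. -/
theorem isZero_of_hom_from (L : DCoh.D (Spec (CommRingCat.of κ))) (m : ℤ)
    (h : ∀ φ : (singleFunctor (Spec (CommRingCat.of κ)).Modules m).obj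
      (Coh.structureModule _) ⟶ L, φ = 0) : IsZero (DCoh.HD L m) := by
  by_contra hL
  obtain ⟨s, r, hsr⟩ := exists_retract κ L m hL
  apply id_single_ne_zero κ m
  rw [← hsr, h s, zero_comp]

end K235.PtField
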