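import Groth.Agent.DEquiv.K235.PtHom
import Groth.Agent.PerfB.SecGamma
import Groth.Agent.PerfA.UnitOU
import Groth.Agent.Cohder.RelPCMon

/-!
# `H^i(X, K ⊗ᴸ O_x)` and `H^i(Le^* K)`
-/

set_option autoImplicit false
universe u
open CategoryTheory CategoryTheory.Limits AlgebraicGeometry TopologicalSpace Opposite MonoidalCategory

namespace K235.PtGamma

open Groth.Agent.PerfA.ExtZero Groth.Agent.PerfA.Hyp0 Groth.Agent.PerfA.Hyp1
open Groth.Agent.Dcoh.DerComp Groth.Agent.Dcoh.DerHo Groth.Agent.Dcoh.DerSch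
open Groth.Agent.PerfB.SecGamma

attribute [local instance] HasDerivedCategory.standard
open scoped Groth.Agent.Dcoh.MonCat Groth.Agent.Dcoh.ModD

variable {X : Scheme.{u}}

/-- If `H^i(RΓ(X, K)) = 0`, all maps `O_X ⟶ K[i]` vanish. (One degree at a time version of
`Groth.Agent.PerfB.SecGamma.hom_eq_zero_of_RΓ`.) -/
theorem hom_eq_zero_of_RΓ [DCoh.HasRΓ X] (K : DCoh.D X) (i : ℤ)
    (h : IsZero ((DerivedCategory.homologyFunctor AddCommGrpCat.{u} i).obj ((DCoh.RΓ X).obj K)))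
    (φ : P 0 ⊤ ⟶ K⟦i⟧) : φ = 0 := by
  obtain ⟨I, f, hI, hf⟩ := hasKInj X (DerivedCategory.Q.objPreimage K)
  have hfQ : IsIso (DerivedCategory.Q.map f) := by
    rw [DerivedCategory.isIso_Q_map_iff_quasiIso]
    exact hf
  let e : K ≅ DerivedCategory.Q.obj I :=
    (DerivedCategory.Q.objObjPreimageIso K).symm ≪≫ asIso (DerivedCategory.Q.map f)
  obtain ⟨e'⟩ := nonempty_RΓIso X I hI
  have hex : (gammaCx X I).ExactAt (0 + i) := by
    rw [HomologicalComplex.exactAt_iff_isZero_homology, zero_add]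
    refine h.of_iso ?_
    exact ((DerivedCategory.homologyFunctorFactors AddCommGrpCat.{u} i).app _).symm ≪≫
      (DerivedCategory.homologyFunctor AddCommGrpCat.{u} i).mapIso (e'.symm ≪≫ (DCoh.RΓ X).mapIso e.symm)
  let e₂ : K⟦i⟧ ≅ DerivedCategory.Q.obj (I⟦i⟧) :=
    (shiftFunctor (DCoh.D X) i).mapIso e ≪≫ ((DerivedCategory.Q.commShiftIso i).app I).symm
  have hI' : CochainComplex.IsKInjective (I⟦i⟧) :=
    (CochainComplex.isKInjective_shift_iff I i).2 hI
  have key : ∀ ψ : P 0 ⊤ ⟶ DerivedCategory.Q.obj (I⟦i⟧), ψ = 0 := by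
    intro ψ
    obtain ⟨z, hz, rfl⟩ := exists_cocycle_of_isKInjective ψ
    obtain ⟨a, rfl⟩ := desc_surjective z
    have ha : (I.d (0 + i) (0 + 1 + i)).app ⊤ a = 0 := by
      rw [desc_comp] at hz
      have h1 := desc_injective (hz.trans desc_zero.symm)
      rw [CochainComplex.shiftFunctor_obj_d'] at h1
      have h2 : (i.negOnePow • I.d (0 + i) (0 + 1 + i)).app ⊤ a =
        i.negOnePow • (I.d (0 + i) (0 + 1 + i)).app ⊤ a := by
        rcases Int.even_or_odd i with hi | hi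
        · rw [Int.negOnePow_even _ hi, one_smul, one_smul]
        · rw [Int.negOnePow_odd _ hi, Units.neg_smul, one_smul, Units.neg_smul, one_smul]
          rfl
      have h3 : i.negOnePow • (I.d (0 + i) (0 + 1 + i)).app ⊤ a = 0 := h2.symm.trans h1
      rcases Int.even_or_odd i with hi | hi
      · rwa [Int.negOnePow_even _ hi, one_smul] at h3
      · rwa [Int.negOnePow_odd _ hi, Units.neg_smul, one_smul, neg_eq_zero] at h3
    obtain ⟨b, hb⟩ := exists_section_of_exactAt I (-1 + i) (0 + i) (0 + 1 + i) (by ring) (by ring)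
      hex a ha
    have hb' : ∃ b' : Γ(I.X (-1 + i), ⊤), ((I⟦i⟧).d (-1) 0).app ⊤ b' = a := by
      rcases Int.even_or_odd i with hi | hi
      · refine ⟨b, ?_⟩
        rw [CochainComplex.shiftFunctor_obj_d', Int.negOnePow_even _ hi, one_smul]
        exact hb
      · refine ⟨-b, ?_⟩
        rw [CochainComplex.shiftFunctor_obj_d', Int.negOnePow_odd _ hi, Units.neg_smul, one_smul]
        change -((I.d (-1 + i) (0 + i)).app ⊤ (-b)) = a
        rw [map_neg, neg_neg]
        exact hb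
    obtain ⟨b', hb'⟩ := hb'
    refine ofCocycle_eq_zero (n := -1) (by lia) _ _ (desc (M := (I⟦i⟧).X (-1)) b') ?_
    rw [desc_comp]
    congr 1
  have := key (φ ≫ e₂.hom)
  rwa [← cancel_mono e₂.hom, zero_comp]

/-- `K ⊗ᴸ G` for a module `G` in terms of the monoidal structure. -/
theorem nonempty_mod (G : X.Modules) [DCoh.HasLTensorMod G] (K : DCoh.D X) :
    Nonempty ((DCoh.LTensorMod G).obj K ≅ K ⊗ DCoh.inD X G) := by
  have := Groth.Agent.Dcoh.ModTens.hasLTensorCx (Groth.Agent.Cohder.RelPCMon.sgl G)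
  obtain ⟨e⟩ := Groth.Agent.Cohder.RelPCMon.nonempty_mod G K
  exact ⟨e ≪≫ (Groth.Agent.Dcoh.ModTens.LTensorCxIso (Groth.Agent.Cohder.RelPCMon.sgl G)).app K⟩

variable (x : X) [DCoh.HasLpull (X.fromSpecResidueField x)]

open K235.PtHom in
/-- If `H^i(X, K ⊗ᴸ O_x) = 0` then `H^i(Le^* K) = 0`. -/
theorem isZero_of_RΓ [DCoh.HasLTensorMod (sky x)] [DCoh.HasRΓ X] (K : DCoh.D X)
    (hK : DCoh.IsPerfect K) (i : ℤ)
    (h : IsZero ((DerivedCategory.homologyFunctor AddCommGrpCat.{u} i).obj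
      ((DCoh.RΓ X).obj ((DCoh.LTensorMod (sky x)).obj K)))) :
    IsZero (DCoh.HD ((DCoh.Lpull (X.fromSpecResidueField x)).obj K) i) := by
  have := Groth.Agent.Dcoh.DerSch.hasRpush (X.fromSpecResidueField x)
  let := Groth.Agent.Dcoh.DerSch.rpushCommShift (X.fromSpecResidueField x)
  let R := DCoh.Rpush (X.fromSpecResidueField x)
  let L := (DCoh.Lpull (X.fromSpecResidueField x)).obj K
  let adj := Groth.Agent.Dcoh.DerPull.lpullAdj (X.fromSpecResidueField x)
  obtain ⟨e1⟩ := nonempty_mod (sky x) K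
  obtain ⟨e2⟩ := nonempty_tensor_sky x K hK
  obtain ⟨e3⟩ := nonempty_unit x
  apply K235.PtField.isZero_of_hom_from (X.residueField x)
  suffices hs : Subsingleton (Om x i ⟶ L) from fun φ => hs.elim φ 0
  -- shift by `i`
  let e4 : (Om x i)⟦i⟧ ≅ (DCoh.Lpull (X.fromSpecResidueField x)).obj (𝟙_ (DCoh.D X)) :=
    ((DerivedCategory.singleFunctors (Spec (X.residueField x)).Modules).shiftIso i 0 i
      (by omega)).app (Coh.structureModule _) ≪≫ Groth.Agent.Dcoh.DualX.unitIso _ ≪≫ e3.symm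
  have hfun : Function.Injective (fun φ : Om x i ⟶ L => (shiftFunctor (DCoh.D _) i).map φ) :=
    (shiftFunctor (DCoh.D _) i).map_injective
  suffices hs : Subsingleton ((Om x i)⟦i⟧ ⟶ L⟦i⟧) from hfun.subsingleton
  refine (e4.homCongr (Iso.refl (L⟦i⟧))).subsingleton_congr.2 ?_
  refine (adj.homEquiv _ _).subsingleton_congr.2 ?_
  let e5 : R.obj (L⟦i⟧) ≅ ((DCoh.LTensorMod (sky x)).obj K)⟦i⟧ :=
    (R.commShiftIso i).app L ≪≫ (shiftFunctor _ i).mapIso (e2.symm ≪≫ e1.symm)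
  refine (((Groth.Agent.Dcoh.DualX.unitIso X).symm ≪≫
    (DerivedCategory.singleFunctor X.Modules 0).mapIso
      (Groth.Agent.PerfA.UnitOU.unitIsoOU X)).homCongr e5).subsingleton_congr.2 ?_
  exact ⟨fun a b => (hom_eq_zero_of_RΓ _ i h a).trans (hom_eq_zero_of_RΓ _ i h b).symm⟩

end K235.PtGamma
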