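import Groth.Agent.DEquiv.K235.PtField
import Groth.Agent.Dual.H379.DQMon
import Groth.Agent.Dual.H492.TensShift

/-!
# Morphisms between objects of `D(O_X)` and point sheaves

`X` a scheme, `x` a point, `e : Spec κ(x) ⟶ X`, `O_x = e_* O`.

* `isZero_of_hom_to_sky`: if every morphism `K ⟶ O_x[-m]` is zero then `H^m(Le^* K) = 0`;
* `isZero_dual`, `isZero_of_hom_from_sky`: for `K` perfect, if every morphism `O_x ⟶ K` is zero and
  there is a nonzero morphism `O_x[-d] ⟶ O_X`, then `H^{-d}(Le^* K) = 0`.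
-/

set_option autoImplicit false
universe u
open CategoryTheory CategoryTheory.Limits AlgebraicGeometry TopologicalSpace Opposite MonoidalCategory

namespace K235.PtHom

open Groth.Agent.PerfA.PointMod Groth.Agent.PerfA.PointHom DerivedCategory Groth.Agent.Dcoh
  Groth.Agent.PerfC.DTens K235.PtField

attribute [local instance] HasDerivedCategory.standard
open scoped Groth.Agent.Dcoh.MonCat Groth.Agent.Dcoh.ModD

variable {X : Scheme.{u}} (x : X)

/-- The skyscraper sheaf with value `κ(x)`. -/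
noncomputable abbrev sky : X.Modules :=
  (Coh.push (X.fromSpecResidueField x)).obj (Coh.structureModule _)

/-- The structure sheaf of `Spec κ(x)` in degree `m`. -/
noncomputable abbrev Om (m : ℤ) : DCoh.D (Spec (X.residueField x)) :=
  (singleFunctor (Spec (X.residueField x)).Modules m).obj (Coh.structureModule _)

/-- `Re_* O[-m] ≅ O_x[-m]`. -/
noncomputable def rpushO [DCoh.HasRpush (X.fromSpecResidueField x)] (m : ℤ) :
    (DCoh.Rpush (X.fromSpecResidueField x)).obj (Om x m) ≅ (singleFunctor X.Modules m).obj (sky x) :=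
  (rpushSingleIso (X.fromSpecResidueField x) (𝟭 (Spec (X.residueField x)).Modules) m
    (fun M => isKInjective_single (X.residueField x) M m)).app (Coh.structureModule _)

variable [DCoh.HasLpull (X.fromSpecResidueField x)]

/-- If every morphism `K ⟶ O_x[-m]` is zero then `H^m(Le^* K) = 0`. -/
theorem isZero_of_hom_to_sky (K : DCoh.D X) (m : ℤ)
    (h : ∀ φ : K ⟶ (singleFunctor X.Modules m).obj (sky x), φ = 0) :
    IsZero (DCoh.HD ((DCoh.Lpull (X.fromSpecResidueField x)).obj K) m) := by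
  have := DerSch.hasRpush (X.fromSpecResidueField x)
  apply isZero_of_hom_to (X.residueField x)
  intro φ
  let adj := DerPull.lpullAdj (X.fromSpecResidueField x)
  apply (adj.homEquiv _ _).injective
  exact (cancel_mono (rpushO x m).hom).1 ((h _).trans (h _).symm)

/-- `A ⊗ B ≅ B ⊗ A` in `D(O_X)`. -/
theorem nonempty_comm (A B : DCoh.D X) : Nonempty (A ⊗ B ≅ B ⊗ A) := by
  obtain ⟨s⟩ := Groth.Agent.LoccohB.LTXInst.nonempty_symm X
  obtain ⟨e1⟩ := PerfDual.nonempty_objIso A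
  obtain ⟨e2⟩ := PerfDual.nonempty_flipIso A
  exact ⟨(e1.app B).symm ≪≫ (s.app A).app B ≪≫ e2.app B⟩

/-- Projection formula for a perfect object: `K ⊗ Re_* A ≅ Re_* (Le^* K ⊗ A)`. -/
theorem nonempty_proj [DCoh.HasRpush (X.fromSpecResidueField x)] (K : DCoh.D X) (hK : DCoh.IsPerfect K)
    (A : DCoh.D (Spec (X.residueField x))) :
    Nonempty (K ⊗ (DCoh.Rpush (X.fromSpecResidueField x)).obj A ≅
      (DCoh.Rpush (X.fromSpecResidueField x)).obj
        ((DCoh.Lpull (X.fromSpecResidueField x)).obj K ⊗ A)) := by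
  obtain ⟨K', -, ⟨hp⟩⟩ := PerfDual.exists_exactPairing K hK
  let := Groth.Agent.Dual.H379.DQMon.lpullMon (X.fromSpecResidueField x)
  have := Groth.Agent.Dual.H379.ModVia.isIso_proj (DCoh.Lpull (X.fromSpecResidueField x))
    (DerPull.lpullAdj (X.fromSpecResidueField x)) K K' A
  exact ⟨asIso (Groth.Agent.Dual.H379.ModVia.proj (DCoh.Lpull (X.fromSpecResidueField x))
    (DerPull.lpullAdj (X.fromSpecResidueField x)) K A)⟩

/-- `K ⊗ O_x ≅ Re_* Le^* K` for `K` perfect. -/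
theorem nonempty_tensor_sky [DCoh.HasRpush (X.fromSpecResidueField x)] (K : DCoh.D X)
    (hK : DCoh.IsPerfect K) :
    Nonempty (K ⊗ DCoh.inD X (sky x) ≅
      (DCoh.Rpush (X.fromSpecResidueField x)).obj
        ((DCoh.Lpull (X.fromSpecResidueField x)).obj K)) := by
  obtain ⟨e⟩ := nonempty_proj x K hK (Om x 0)
  exact ⟨whiskerLeftIso K (rpushO x 0).symm ≪≫ e ≪≫
    (DCoh.Rpush _).mapIso (whiskerLeftIso _ (DualX.unitIso _) ≪≫ ρ_ _)⟩

/-- Step A: if `Hom(O_x, K) = 0` and there is a nonzero morphism `O_x[-d] ⟶ O_X`, then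
`H^d(Le^* K') = 0` for the dual `K'` of `K`. -/
theorem isZero_dual (K K' : DCoh.D X) (hK' : DCoh.IsPerfect K') (hp : ExactPairing K K') (d : ℤ)
    (ψ : (singleFunctor X.Modules d).obj (sky x) ⟶ DCoh.inD X (Coh.structureModule X)) (hψ : ψ ≠ 0)
    (h : ∀ φ : DCoh.inD X (sky x) ⟶ K, φ = 0) :
    IsZero (DCoh.HD ((DCoh.Lpull (X.fromSpecResidueField x)).obj K') d) := by
  have := DerSch.hasRpush (X.fromSpecResidueField x)
  by_contra hd
  obtain ⟨s, r, hsr⟩ : ∃ (s : Om x d ⟶ (DCoh.Lpull (X.fromSpecResidueField x)).obj K')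
      (r : (DCoh.Lpull (X.fromSpecResidueField x)).obj K' ⟶ Om x d), s ≫ r = 𝟙 _ :=
    exists_retract (X.residueField x) _ d hd
  obtain ⟨e⟩ := nonempty_tensor_sky x K' hK'
  let s' : (singleFunctor X.Modules d).obj (sky x) ⟶ K' ⊗ DCoh.inD X (sky x) :=
    (rpushO x d).inv ≫ (DCoh.Rpush (X.fromSpecResidueField x)).map s ≫ e.inv
  let r' : K' ⊗ DCoh.inD X (sky x) ⟶ (singleFunctor X.Modules d).obj (sky x) :=
    e.hom ≫ (DCoh.Rpush (X.fromSpecResidueField x)).map r ≫ (rpushO x d).hom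
  have hs'r' : s' ≫ r' = 𝟙 _ := by
    dsimp only [s', r']
    simp only [Category.assoc, e.inv_hom_id_assoc]
    rw [← Functor.map_comp_assoc, hsr, CategoryTheory.Functor.map_id, Category.id_comp,
      (rpushO x d).inv_hom_id]
  have h1 : Subsingleton (K' ⊗ DCoh.inD X (sky x) ⟶ DCoh.inD X (Coh.structureModule X)) := by
    refine ⟨fun a b => ?_⟩
    apply ((tensorLeftAdjunction K K').homEquiv (DCoh.inD X (sky x)) (DCoh.inD X (Coh.structureModule X))).injective
    let u : K ⊗ DCoh.inD X (Coh.structureModule X) ≅ K := whiskerLeftIso K (DualX.unitIso X) ≪≫ ρ_ K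
    refine (cancel_mono u.hom).1 ((h _).trans (h _).symm)
  apply hψ
  calc ψ = s' ≫ r' ≫ ψ := by rw [reassoc_of% hs'r']
    _ = s' ≫ 0 := by rw [h1.elim (r' ≫ ψ) 0]
    _ = 0 := comp_zero

/-- The unit object of `D(O_{Spec κ(x)})` is `Le^*` of the unit object. -/
theorem nonempty_unit : Nonempty ((DCoh.Lpull (X.fromSpecResidueField x)).obj (𝟙_ (DCoh.D X)) ≅
    𝟙_ (DCoh.D (Spec (X.residueField x)))) := by
  let := Groth.Agent.Dual.H379.DQMon.lpullMon (X.fromSpecResidueField x)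
  exact ⟨(Functor.Monoidal.εIso (DCoh.Lpull (X.fromSpecResidueField x))).symm⟩

/-- Step B: if `H^d(Le^* K') = 0` for the dual `K'` of `K` then `H^{-d}(Le^* K) = 0`. -/
theorem isZero_of_isZero_dual (K K' : DCoh.D X) (hK' : DCoh.IsPerfect K') (hp : ExactPairing K K')
    (d : ℤ) (h : IsZero (DCoh.HD ((DCoh.Lpull (X.fromSpecResidueField x)).obj K') d)) :
    IsZero (DCoh.HD ((DCoh.Lpull (X.fromSpecResidueField x)).obj K) (-d)) := by
  have := DerSch.hasRpush (X.fromSpecResidueField x)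
  let R := DCoh.Rpush (X.fromSpecResidueField x)
  let L' := (DCoh.Lpull (X.fromSpecResidueField x)).obj K'
  apply isZero_of_hom_to (X.residueField x)
  suffices hs : Subsingleton ((DCoh.Lpull (X.fromSpecResidueField x)).obj K ⟶ Om x (-d)) from
    fun φ => hs.elim φ 0
  let adj := DerPull.lpullAdj (X.fromSpecResidueField x)
  refine (adj.homEquiv K (Om x (-d))).subsingleton_congr.2 ?_
  -- `Hom(K, Re_* S) = Hom(𝟙 ⊗ K, Re_* S) = Hom(𝟙, Re_* S ⊗ K')`
  refine ((λ_ K).homCongr (Iso.refl (R.obj (Om x (-d))))).symm.subsingleton_congr.2 ?_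
  refine ((tensorRightAdjunction K K').homEquiv (𝟙_ _) (R.obj (Om x (-d)))).subsingleton_congr.2 ?_
  obtain ⟨e1⟩ := nonempty_comm (R.obj (Om x (-d))) K'
  obtain ⟨e2⟩ := nonempty_proj x K' hK' (Om x (-d))
  -- `S = 𝟙⟦d⟧`
  let e3 : Om x (-d) ≅ (𝟙_ (DCoh.D (Spec (X.residueField x))))⟦d⟧ :=
    (((singleFunctors (Spec (X.residueField x)).Modules).shiftIso d (-d) 0 (by omega)).app
      (Coh.structureModule _)).symm ≪≫ (shiftFunctor _ d).mapIso (DualX.unitIso _)
  obtain ⟨e4⟩ := Groth.Agent.Dual.H492.TensShift.nonempty_shift_unit (X := Spec (X.residueField x)) d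
  let e5 : L' ⊗ Om x (-d) ≅ L'⟦d⟧ := whiskerLeftIso L' e3 ≪≫ e4.app L'
  let e6 : (tensorRight K').obj (R.obj (Om x (-d))) ≅ R.obj (L'⟦d⟧) := e1 ≪≫ e2 ≪≫ R.mapIso e5
  refine ((Iso.refl (𝟙_ (DCoh.D X))).homCongr e6).subsingleton_congr.2 ?_
  refine (adj.homEquiv _ _).symm.subsingleton_congr.2 ?_
  obtain ⟨e7⟩ := nonempty_unit x
  refine (e7.homCongr (Iso.refl (L'⟦d⟧))).subsingleton_congr.2 ?_
  refine ((DualX.unitIso _).homCongr (Iso.refl (L'⟦d⟧))).symm.subsingleton_congr.2 ?_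
  have h1 : IsZero (DCoh.HD (L'⟦d⟧) 0) :=
    h.of_iso (((homologyFunctor _ 0).shiftIso d 0 d (by omega)).app L')
  exact K235.SemiSimple.subsingleton_single (injective_of_field (X.residueField x)) (L'⟦d⟧) 0 h1 _

/-- If `K` is perfect, every morphism `O_x ⟶ K` is zero and there is a nonzero morphism
`O_x[-d] ⟶ O_X` then `H^{-d}(Le^* K) = 0`. -/
theorem isZero_of_hom_from_sky (K : DCoh.D X) (hK : DCoh.IsPerfect K) (d : ℤ)
    (ψ : (singleFunctor X.Modules d).obj (sky x) ⟶ DCoh.inD X (Coh.structureModule X)) (hψ : ψ ≠ 0)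
    (h : ∀ φ : DCoh.inD X (sky x) ⟶ K, φ = 0) :
    IsZero (DCoh.HD ((DCoh.Lpull (X.fromSpecResidueField x)).obj K) (-d)) := by
  obtain ⟨K', hK', ⟨hp⟩⟩ := PerfDual.exists_exactPairing K hK
  exact isZero_of_isZero_dual x K K' hK' hp d (isZero_dual x K K' hK' hp d ψ hψ h)

/-- The shift of `Le^*`. -/
theorem isZero_shift_iff (K : DCoh.D X) (n m : ℤ) :
    IsZero (DCoh.HD ((DCoh.Lpull (X.fromSpecResidueField x)).obj (K⟦n⟧)) m) ↔
      IsZero (DCoh.HD ((DCoh.Lpull (X.fromSpecResidueField x)).obj K) (n + m)) := by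
  let := DerPull.lpullCommShift (X.fromSpecResidueField x)
  let L := (DCoh.Lpull (X.fromSpecResidueField x)).obj K
  let e1 : (DCoh.Lpull (X.fromSpecResidueField x)).obj (K⟦n⟧) ≅ L⟦n⟧ :=
    ((DCoh.Lpull (X.fromSpecResidueField x)).commShiftIso n).app K
  exact ((homologyFunctor _ m).mapIso e1 ≪≫
    ((homologyFunctor _ 0).shiftIso n m (n + m) rfl).app L).isZero_iff

/-- The shifted form. -/
theorem isZero_of_hom_from_sky' (K : DCoh.D X) (hK : DCoh.IsPerfect K) (d n : ℤ)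
    (ψ : (singleFunctor X.Modules d).obj (sky x) ⟶ DCoh.inD X (Coh.structureModule X)) (hψ : ψ ≠ 0)
    (h : ∀ φ : DCoh.inD X (sky x) ⟶ K⟦n⟧, φ = 0) :
    IsZero (DCoh.HD ((DCoh.Lpull (X.fromSpecResidueField x)).obj K) (n - d)) := by
  have h1 := isZero_of_hom_from_sky x (K⟦n⟧) (Groth.Agent.PerfA.PerfLocal.isPerfect_shift hK n) d ψ hψ h
  rw [isZero_shift_iff] at h1
  exact h1

/-- If every morphism `K ⟶ O_x⟦n⟧` is zero then `H^{-n}(Le^* K) = 0`. -/
theorem isZero_of_hom_to_sky' (K : DCoh.D X) (n : ℤ)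
    (h : ∀ φ : K ⟶ (DCoh.inD X (sky x))⟦n⟧, φ = 0) :
    IsZero (DCoh.HD ((DCoh.Lpull (X.fromSpecResidueField x)).obj K) (-n)) := by
  apply isZero_of_hom_to_sky
  intro φ
  let e : (DCoh.inD X (sky x))⟦n⟧ ≅ (singleFunctor X.Modules (-n)).obj (sky x) :=
    ((singleFunctors X.Modules).shiftIso n (-n) 0 (by omega)).app (sky x)
  exact (cancel_mono e.inv).1 ((h _).trans zero_comp.symm)

end K235.PtHom
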