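import Groth.Agent.PerfB.Betti
import Groth.Agent.PerfC.Supp

/-!
# Vanishing of `H^i(Le^* K)` and of `H^i(K)` near a point
-/

set_option autoImplicit false
universe u
open CategoryTheory CategoryTheory.Limits AlgebraicGeometry TopologicalSpace Opposite

namespace K235.PtModel

open Groth.Agent.PerfB.Betti Groth.Agent.PerfB.MinModel Groth.Agent.PerfB.FibreDim
  Groth.Agent.PerfB.PullData DerivedCategory

attribute [local instance] HasDerivedCategory.standard

variable {X : Scheme.{u}} (x : X) [DCoh.HasLpull (X.fromSpecResidueField x)]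

theorem betti_eq_zero (K : DCoh.D X) (i : ℤ)
    (h : IsZero (DCoh.HD ((DCoh.Lpull (X.fromSpecResidueField x)).obj K) i)) :
    PerfD.betti K x i = 0 := by
  have h1 : IsZero ((Γf (Spec (X.residueField x))).obj
      (DCoh.HD ((DCoh.Lpull (X.fromSpecResidueField x)).obj K) i)) :=
    (Γf (Spec (X.residueField x))).map_isZero h
  have h2 : Subsingleton ((Γf (Spec (X.residueField x))).obj
      (DCoh.HD ((DCoh.Lpull (X.fromSpecResidueField x)).obj K) i)) :=
    ModuleCat.subsingleton_of_isZero h1
  have : Nontrivial (Coh.Γtop (Spec (X.residueField x))) := (isField_Γtop_residueField X x).nontrivial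
  have h3 : Subsingleton ((DCoh.HD ((DCoh.Lpull (X.fromSpecResidueField x)).obj K) i).val.obj
      (op ⊤)) := h2
  exact Module.finrank_zero_of_subsingleton

theorem isZero_homology_of_eq_zero {U : Scheme.{u}} {M : CochainComplex U.Modules ℤ} {n : ℤ → ℕ}
    (hM : TermsFree M n) (i : ℤ) (hi : n i = 0) : IsZero (DCoh.HD (Q.obj M) i) := by
  have h := (hM i).some
  rw [hi] at h
  have h1 : IsZero (M.X i) := (isZero_freeMod_zero U).of_iso h
  have h2 : IsZero (M.homology i) := by
    rw [← HomologicalComplex.exactAt_iff_isZero_homology]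
    exact ShortComplex.exact_of_isZero_X₂ _ h1
  exact h2.of_iso ((homologyFunctorFactors _ i).app M)

/-- A perfect object near a point: `H^i(K)` vanishes near `x` as soon as `H^i(Le^* K) = 0`. -/
theorem exists_open_perf (K : DCoh.D X) (hK : DCoh.IsPerfect K) :
    ∃ U : X.Opens, x ∈ U ∧ ∀ i : ℤ,
      IsZero (DCoh.HD ((DCoh.Lpull (X.fromSpecResidueField x)).obj K) i) →
      ∀ y : X, y ∈ U → y ∉ CohB1.support (DCoh.HD K i) := by
  obtain ⟨U, j, hj, u₀, hu₀, M, n, a, b, α, hM, hn, hmin⟩ := exists_model_perf K hK x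
  refine ⟨j.opensRange, ⟨u₀, hu₀⟩, fun i hi y hy hys => ?_⟩
  have h1 : PerfD.betti K x i = n i :=
    betti_eq x j hM hn K (i - 1) α.hom (fun _ _ => inferInstance) inferInstance i (by omega) u₀ hu₀ hmin
  rw [betti_eq_zero x K i hi] at h1
  have h2 : IsZero (DCoh.HD ((DCoh.restrictD j).obj K) i) :=
    (isZero_homology_of_eq_zero hM i h1.symm).of_iso ((homologyFunctor _ i).mapIso α.symm)
  have h3 := Groth.Agent.PerfC.Supp.supp_restrictD j K i
  rw [(Groth.Agent.PerfC.Supp.supp_eq_empty_iff _ i).2 h2] at h3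
  obtain ⟨z, rfl⟩ := hy
  have : z ∈ (j ⁻¹' CohB1.support (DCoh.HD K i) : Set U) := hys
  rw [← h3] at this
  exact this

end K235.PtModel
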