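import Groth.Agent.DEquiv.K235.PtHom
import Groth.Agent.DEquiv.K235.PtModel
import Groth.Agent.Htor.H250.LocalTor
import Groth.Agent.CohqB.DevSupport
import Groth.Agent.S0020

/-!
# Vanishing of the stalks of `H^i(K)`, `i > b`, and morphisms to the point sheaf
-/

set_option autoImplicit false
universe u
open CategoryTheory CategoryTheory.Limits AlgebraicGeometry TopologicalSpace Opposite

namespace K235.PtLe

open Groth.Agent.PerfA.PointMod Groth.Agent.PerfA.PointHom DerivedCategory Groth.Agent.Dcoh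
  K235.PtField K235.PtHom

attribute [local instance] HasDerivedCategory.standard

variable {X : Scheme.{u}} (x : X)

/-- `O_x[-m]` as a derived direct image from an open neighbourhood of `x`. -/
theorem exists_rpush (V : X.Opens) (hx : x ∈ V) (m : ℤ) [DCoh.HasRpush V.ι] :
    ∃ G : DCoh.D (V : Scheme.{u}), G.IsGE m ∧
      Nonempty ((DCoh.Rpush V.ι).obj G ≅ (singleFunctor X.Modules m).obj (sky x)) := by
  let e' : Spec (X.residueField x) ⟶ (V : Scheme.{u}) := Groth.Agent.PerfB.Betti.lift x V.ι (by simpa using hx)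
  have he' : e' ≫ V.ι = X.fromSpecResidueField x := Groth.Agent.PerfB.Betti.lift_fac x V.ι _
  have := DerSch.hasRpush e'
  have := DerSch.hasRpush (e' ≫ V.ι)
  have := DerSch.hasRpush (X.fromSpecResidueField x)
  obtain ⟨c⟩ := DerPull.exists_rpushCompIso e' V.ι
  let r : (DCoh.Rpush e').obj (Om x m) ≅ (singleFunctor (V : Scheme.{u}).Modules m).obj
      ((Scheme.Modules.pushforward e').obj (Coh.structureModule _)) :=
    (rpushSingleIso e' (𝟭 (Spec (X.residueField x)).Modules) m
      (fun M => isKInjective_single (X.residueField x) M m)).app (Coh.structureModule _)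
  refine ⟨(DCoh.Rpush e').obj (Om x m), ?_, ⟨(c.app (Om x m)) ≪≫ ?_⟩⟩
  · have : ((singleFunctor (V : Scheme.{u}).Modules m).obj
      ((Scheme.Modules.pushforward e').obj (Coh.structureModule _))).IsGE m := inferInstance
    exact DerivedCategory.TStructure.t.isGE_of_iso r.symm m
  · have key : ∀ (f : Spec (X.residueField x) ⟶ X) [DCoh.HasRpush f], f = X.fromSpecResidueField x →
        Nonempty ((DCoh.Rpush f).obj (Om x m) ≅ (singleFunctor X.Modules m).obj (sky x)) := by
      rintro f hf rfl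
      exact ⟨rpushO x m⟩
    exact (key _ he').some

/-- If the stalks at `x` of `H^i(K)` vanish for `i > b`, there are no nonzero morphisms
`K ⟶ O_x[-i]` for `i > b`. -/
theorem hom_eq_zero [IsLocallyNoetherian X] (K : DCoh.D X) (hK : DCoh.IsCohD K) (c : ℤ) (hc : K.IsLE c)
    (b : ℤ) (h : ∀ i : ℤ, b < i → x ∉ CohB1.support (DCoh.HD K i)) (i : ℤ) (hi : b < i)
    (φ : K ⟶ (singleFunctor X.Modules i).obj (sky x)) : φ = 0 := by
  let Z : Set X := ⋃ n ∈ (Finset.Ioc b c : Set ℤ), CohB1.support (DCoh.HD K n)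
  have hZ : IsClosed Z := (Finset.finite_toSet _).isClosed_biUnion fun n _ =>
    Groth.Agent.S0020.result X _ (hK n).2
  let V : X.Opens := ⟨Zᶜ, hZ.isOpen_compl⟩
  have hxV : x ∈ V := by
    intro hx
    obtain ⟨n, hn, hxn⟩ := Set.mem_iUnion₂.1 hx
    exact h n (Finset.mem_Ioc.1 hn).1 hxn
  have hLE : ((DCoh.restrictD V.ι).obj K).IsLE b := by
    rw [DerivedCategory.isLE_iff]
    intro n hn
    rw [← Groth.Agent.PerfC.Supp.supp_eq_empty_iff, Groth.Agent.PerfC.Supp.supp_restrictD,
      Set.eq_empty_iff_forall_notMem]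
    intro y hy
    by_cases hnc : n ≤ c
    · exact y.2 (Set.mem_iUnion₂.2 ⟨n, Finset.mem_Ioc.2 ⟨hn, hnc⟩, hy⟩)
    · have h0 : IsZero (DCoh.HD K n) := (DerivedCategory.isLE_iff K c).1 hc n (by omega)
      have h1 := Groth.Agent.CohqB.DevSupport.support_eq_empty_of_isZero h0
      change V.ι y ∈ CohB1.support (DCoh.HD K n) at hy
      rw [h1] at hy
      exact hy
  have := DerSch.hasRpush V.ι
  obtain ⟨G, hG, ⟨e⟩⟩ := exists_rpush x V hxV i
  let adj := DerSch.restrictAdj V.ι
  have h1 : (adj.homEquiv K G).symm (φ ≫ e.inv) = 0 :=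
    DerivedCategory.TStructure.t.zero _ b i hi
  have h2 : (adj.homEquiv K G).symm (0 : K ⟶ (DCoh.Rpush V.ι).obj G) = 0 :=
    DerivedCategory.TStructure.t.zero _ b i hi
  have h3 : φ ≫ e.inv = 0 := (adj.homEquiv K G).symm.injective (h1.trans h2.symm)
  exact (cancel_mono e.inv).1 (h3.trans zero_comp.symm)

/-- If `H^i(Le^* K) = 0` for all `i > b` then the stalk at `x` of `H^i(K)` vanishes for `i > b`. -/
theorem not_mem_support [IsLocallyNoetherian X] [DCoh.HasLpull (X.fromSpecResidueField x)]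
    (K : DCoh.D X) (hK : DCoh.IsCohD K) (c : ℤ) (hc : K.IsLE c) (i : ℤ)
    (h : IsZero (DCoh.HD ((DCoh.Lpull (X.fromSpecResidueField x)).obj K) i)) :
    x ∉ CohB1.support (DCoh.HD K i) := by
  have hpc := Groth.Agent.Htor.H250.LocalTor.isPseudoCoherentD_of_isCohD K c hc hK (i - 1)
  obtain ⟨U, j, hj, u₀, hu₀, M, n, a, b, α, hM, hn, hmin, hα1, hα2⟩ :=
    Groth.Agent.PerfB.Betti.exists_model_pc (i - 1) K hpc x
  have h1 : PerfD.betti K x i = n i :=
    Groth.Agent.PerfB.Betti.betti_eq x j hM hn K (i - 1) α hα1 hα2 i (by omega) u₀ hu₀ hmin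
  rw [K235.PtModel.betti_eq_zero x K i h] at h1
  have h2 : IsZero (DCoh.HD ((DCoh.restrictD j).obj K) i) := by
    have := hα1 i (by omega)
    exact (K235.PtModel.isZero_homology_of_eq_zero hM i h1.symm).of_iso
      (asIso ((homologyFunctor _ i).map α)).symm
  have h3 := Groth.Agent.PerfC.Supp.supp_restrictD j K i
  rw [(Groth.Agent.PerfC.Supp.supp_eq_empty_iff _ i).2 h2] at h3
  intro hys
  have h4 : j u₀ ∈ CohB1.support (DCoh.HD K i) := by
    rw [hu₀]
    exact hys
  have h5 : u₀ ∈ (j ⁻¹' Groth.Agent.PerfC.Supp.supp K i : Set U) := h4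
  rw [← h3] at h5
  exact h5

end K235.PtLe
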